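import Groth.Agent.Dual3Lib.ExtHH
import Groth.Agent.ExtOneLib.Basic
import Groth.Agent.QCohLib.QCoh
import Groth.Agent.DegPullLib.H0
import Groth.Agent.FormalLib.Main
import Groth.Agent.DevissLib.ClosedImm
import Groth.Prelude.Def_Canon
import Mathlib.LinearAlgebra.FreeModule.PID
import Mathlib.LinearAlgebra.Dimension.Finrank

/-!
# `H¹` of a dualizing sheaf against global functions, over a discrete valuation ring
-/

set_option autoImplicit false
set_option linter.style.haveILetI false
set_option backward.isDefEq.respectTransparency false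
set_option backward.isDefEq.respectTransparency.types false
set_option maxHeartbeats 1000000
set_option synthInstance.maxHeartbeats 200000

universe u

open CategoryTheory CategoryTheory.Limits AlgebraicGeometry CategoryTheory.Abelian
open Groth.Agent.Dual3Lib

noncomputable section

namespace Groth.Agent.RelCurveDualLib

variable {R : Type u} [CommRing R] [IsDomain R] [IsPrincipalIdealRing R] {X : Scheme.{u}}
  [X.Over (Spec (CommRingCat.of R))]

/-- A linear map extends along `f` if it kills the kernel of `f` and the cokernel is free. -/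
theorem exists_extend {M N P : Type u} [AddCommGroup M] [Module R M] [AddCommGroup N] [Module R N]
    [AddCommGroup P] [Module R P] [Module.Finite R P] [Module.Free R P] (f : M →ₗ[R] N) (g : N →ₗ[R] P)
    (hfg : Function.Exact f g) (t : M →ₗ[R] R) (ht : LinearMap.ker f ≤ LinearMap.ker t) :
    ∃ ψ : N →ₗ[R] R, ψ.comp f = t := by
  let t' : LinearMap.range f →ₗ[R] R :=
    (Submodule.liftQ _ t ht).comp f.quotKerEquivRange.symm.toLinearMap
  have ht' : ∀ m, t' ⟨f m, LinearMap.mem_range_self f m⟩ = t m := fun m => by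
    show Submodule.liftQ _ t ht (f.quotKerEquivRange.symm _) = _
    rw [show f.quotKerEquivRange.symm ⟨f m, LinearMap.mem_range_self f m⟩ = Submodule.Quotient.mk m from
      (LinearEquiv.symm_apply_eq _).2 (Subtype.ext (LinearMap.quotKerEquivRange_apply_mk f m).symm)]
    exact Submodule.liftQ_apply _ _ _
  have hker : LinearMap.ker g = LinearMap.range f := LinearMap.exact_iff.1 hfg
  haveI : Module.Free R (LinearMap.range g) := inferInstance
  haveI : Module.Projective R (LinearMap.range g) := Module.Projective.of_free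
  obtain ⟨s, hs⟩ := Module.projective_lifting_property g.rangeRestrict (LinearMap.id)
    g.surjective_rangeRestrict
  let π : N →ₗ[R] LinearMap.range f :=
    (LinearMap.id - s.comp g.rangeRestrict).codRestrict _ fun x => by
      rw [← hker, LinearMap.mem_ker]
      have := congrArg (fun φ => ((φ (g.rangeRestrict x)) : P)) hs
      simp only [LinearMap.comp_apply, LinearMap.id_apply, LinearMap.codRestrict_apply] at this
      simp only [LinearMap.sub_apply, LinearMap.id_apply, LinearMap.comp_apply, map_sub]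
      rw [show g (s (g.rangeRestrict x)) = g x from this, sub_self]
  refine ⟨t'.comp π, LinearMap.ext fun m => ?_⟩
  have : π (f m) = ⟨f m, LinearMap.mem_range_self f m⟩ := Subtype.ext <| by
    show f m - s (g.rangeRestrict (f m)) = f m
    have h0 : g.rangeRestrict (f m) = 0 := Subtype.ext (hfg.apply_apply_eq_zero m)
    rw [h0, map_zero, sub_zero]
  rw [LinearMap.comp_apply, LinearMap.comp_apply, this, ht']

variable (ω : X.Modules) (tr : Coh.HH X ω 1 →ₗ[R] R)

/-- The pairing `y ↦ (a ↦ tr (a • y))`. -/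
def theta (y : Coh.HH X ω 1) (a : Γ(X, ⊤)) : R := tr (Canon.HHlin R (sMod ω a) 1 y)

variable {ω tr}

/-- **The pairing with global functions is injective.** -/
theorem eq_zero_of_theta [IsProper (X ↘ Spec (CommRingCat.of R))] (hω : Canon.IsRDualOver R X 1 ω tr)
    (hcf : Module.Free R (Coh.HH X (Coh.structureModule X) 1))
    (y : Coh.HH X ω 1) (hy : ∀ a : Γ(X, ⊤), theta ω tr y a = 0) : y = 0 := by
  haveI : EnoughInjectives X.Modules := IsGrothendieckAbelian.enoughInjectives.{u}
  haveI : HasExt.{u} X.Modules := hasExt_of_enoughInjectives.{u} X.Modules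
  haveI := hω.1
  haveI := hcf
  haveI : Module.Finite R (Coh.HH X (Coh.structureModule X) 1) :=
    FormalLib.finite_HH _ (DevissLib.isCoh_structureModule X) 1
  obtain ⟨z, rfl⟩ := (bijective_extHH ω 1).2 y
  obtain ⟨E, ι, q, w, hS, hz⟩ := ExtOneLib.exists_extension z
  haveI : Coh.IsQCoh (ShortComplex.mk ι q w).X₁ := hω.1
  haveI : Coh.IsQCoh (ShortComplex.mk ι q w).X₃ := QCohLib.isQCoh_unit
  have hE : Coh.IsQCoh E := QCohLib.isQCoh_of_shortExact hS
  let S := ShortComplex.mk ι q w
  have hex : Function.Exact (Canon.HHlin R ι 1) (Canon.HHlin R q 1) := fun x => by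
    constructor
    · intro hx
      obtain ⟨e, rfl⟩ := (bijective_extHH E 1).2 x
      obtain ⟨d, hd⟩ := Ext.covariant_sequence_exact₂ (Coh.structureModule X) hS (n := 1) e
        ((bijective_extHH _ 1).1 <| by
          rw [map_zero]
          exact (extHH_natural q 1 e).trans hx)
      refine ⟨extHH ω 1 d, ?_⟩
      rw [← hd]
      exact (extHH_natural ι 1 d).symm
    · rintro ⟨d, rfl⟩
      show Sheaf.H.map _ 1 (Sheaf.H.map _ 1 d) = 0
      rw [← Sheaf.H.map_comp_apply, ← Functor.map_comp, w, Functor.map_zero]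
      show Ext.comp d (Ext.mk₀ 0) (add_zero 1) = 0
      rw [Ext.mk₀_zero, Ext.comp_zero]
  have hker : LinearMap.ker (Canon.HHlin R ι 1) ≤ LinearMap.ker tr := fun x hx => by
    obtain ⟨e, rfl⟩ := (bijective_extHH ω 1).2 x
    have h0 : e.comp (Ext.mk₀ S.f) (add_zero 1) = 0 := (bijective_extHH E 1).1 <| by
      rw [map_zero]
      exact (extHH_natural ι 1 e).trans hx
    obtain ⟨c, hc⟩ := Ext.covariant_sequence_exact₁ (Coh.structureModule X) hS e h0 (n₀ := 0) rfl
    obtain ⟨g, rfl⟩ := (Ext.mk₀_bijective _ _).2 c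
    let a : Γ(X, ⊤) := g.app ⊤ (1 : Γ(X, ⊤))
    have hg : g = sMod (Coh.structureModule X) a := by
      refine Scheme.Modules.hom_ext _ _ fun W => ?_
      ext r
      let r' : Γ(X, W) := r
      show g.app W r' = (X.presheaf.map (homOfLE (le_top : W ≤ ⊤)).op a) * r'
      have h1 : g.app W r' = r' * (show Γ(X, W) from g.app W (1 : Γ(X, W))) := by
        have := Scheme.Modules.Hom.app_smul g r' (1 : Γ(X, W))
        exact (congrArg (g.app W) (mul_one r').symm).trans this
      have h2 : g.app W (1 : Γ(X, W)) = X.presheaf.map (homOfLE (le_top : W ≤ ⊤)).op a := by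
        refine Eq.trans ?_ (QCohLib.app_map g (homOfLE (le_top : W ≤ ⊤)) (1 : Γ(X, ⊤)))
        exact congrArg _ (map_one (X.presheaf.map (homOfLE (le_top : W ≤ ⊤)).op).hom).symm
      rw [h1, h2]
      exact @mul_comm Γ(X, W) _ r' _
    let μ : S ⟶ S :=
      { τ₁ := sMod _ a
        τ₂ := sMod _ a
        τ₃ := sMod _ a
        comm₁₂ := sMod_natural _ a
        comm₂₃ := sMod_natural _ a }
    have he : e = z.comp (Ext.mk₀ (sMod ω a)) (add_zero 1) := by
      rw [← hc, hg, ← hz]
      exact (ShortComplex.ShortExact.extClass_naturality hS hS μ).symm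
    rw [LinearMap.mem_ker, he, extHH_natural]
    exact hy a
  obtain ⟨ψ, hψ⟩ := exists_extend (Canon.HHlin R ι 1) (Canon.HHlin R q 1) hex tr hker
  obtain ⟨φ, hφ⟩ := (hω.2 E hE).2 ψ
  have hid : ι ≫ φ = 𝟙 ω := (hω.2 ω hω.1).1 <| LinearMap.ext fun x => by
    show tr (Sheaf.H.map ((SheafOfModules.toSheaf X.ringCatSheaf).map (ι ≫ φ)) 1 x) =
      tr (Sheaf.H.map ((SheafOfModules.toSheaf X.ringCatSheaf).map (𝟙 ω)) 1 x)
    rw [Functor.map_comp, Sheaf.H.map_comp_apply, CategoryTheory.Functor.map_id, Sheaf.H.map_id_apply]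
    exact (LinearMap.congr_fun hφ _).trans (LinearMap.congr_fun hψ x)
  have hz0 : z = 0 := by
    have h := congrArg (fun e => e.comp (Ext.mk₀ φ) (add_zero 1)) hS.extClass_comp
    simp only [Ext.zero_comp] at h
    rw [Ext.comp_assoc _ _ _ (add_zero 1) (add_zero 0) (by omega), Ext.mk₀_comp_mk₀, hid, Ext.comp_mk₀_id] at h
    rw [← hz]; exact h
  rw [hz0, map_zero]

variable (ω tr) in
/-- The pairing as a linear map. -/
def thetaL : letI : Algebra R Γ(X, ⊤) := (Coh.toGlobal (X ↘ Spec (CommRingCat.of R))).toAlgebra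
    Coh.HH X ω 1 →ₗ[R] (Γ(X, ⊤) →ₗ[R] R) :=
  letI : Algebra R Γ(X, ⊤) := (Coh.toGlobal (X ↘ Spec (CommRingCat.of R))).toAlgebra
  LinearMap.mk₂ R (fun y a => theta ω tr y a)
    (fun y y' a => by show tr (Canon.HHlin R _ 1 (y + y')) = _; rw [map_add, map_add]; rfl)
    (fun c y a => by show tr (Canon.HHlin R _ 1 (c • y)) = _; rw [map_smul, map_smul]; rfl)
    (fun y a a' => by
      show tr ((HSMul.hSMul (α := Coh.Γtop X) (a + a') y)) = _
      rw [add_smul, map_add]; rfl)
    (fun c y a => by
      show tr ((HSMul.hSMul (α := Coh.Γtop X) ((show Γ(X, ⊤) from Coh.toGlobal (X ↘ Spec (CommRingCat.of R)) c) * a) y)) = _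
      rw [mul_smul]
      exact tr.map_smul c _)

/-- `H⁰(X, O) = Γ(X, O)`, linearly. -/
def h0Equiv : letI : Algebra R Γ(X, ⊤) := (Coh.toGlobal (X ↘ Spec (CommRingCat.of R))).toAlgebra
    Coh.HH X (Coh.structureModule X) 0 ≃ₗ[R] Γ(X, ⊤) :=
  letI : Algebra R Γ(X, ⊤) := (Coh.toGlobal (X ↘ Spec (CommRingCat.of R))).toAlgebra
  { (DegPullLib.e0 (Coh.structureModule X)) with
    map_smul' := fun r x => (DegPullLib.e0_smul (Coh.structureModule X) _ x).trans rfl }

/-- **Freeness and rank.** -/
theorem free_finrank [IsProper (X ↘ Spec (CommRingCat.of R))] [IsIntegral X] (hω : Canon.IsRDualOver R X 1 ω tr)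
    (hinj : Function.Injective (Coh.toGlobal (X ↘ Spec (CommRingCat.of R))))
    (hcf : Module.Free R (Coh.HH X (Coh.structureModule X) 1)) (hne : Nontrivial (Coh.HH X ω 1)) :
    Module.Free R (Coh.HH X ω 1) ∧
      Module.finrank R (Coh.HH X ω 1) = Module.finrank R (Coh.HH X (Coh.structureModule X) 0) := by
  letI : Algebra R Γ(X, ⊤) := (Coh.toGlobal (X ↘ Spec (CommRingCat.of R))).toAlgebra
  let e0 := h0Equiv (R := R) (X := X)
  haveI := FormalLib.finite_HH (A := R) (X := X) _ (DevissLib.isCoh_structureModule X) 0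
  haveI : Module.Finite R Γ(X, ⊤) := Module.Finite.equiv e0
  haveI : Nonempty (⊤ : X.Opens) := ⟨⟨genericPoint X, trivial⟩⟩
  haveI : IsDomain Γ(X, ⊤) := IsIntegral.component_integral ⊤
  haveI : FaithfulSMul R Γ(X, ⊤) := (faithfulSMul_iff_algebraMap_injective R Γ(X, ⊤)).2 hinj
  haveI : Module.IsTorsionFree R Γ(X, ⊤) := inferInstance
  haveI : Module.Free R Γ(X, ⊤) := Module.free_of_finite_type_torsion_free'
  have hθ : Function.Injective (thetaL ω tr) := (injective_iff_map_eq_zero _).2 fun y hy =>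
    eq_zero_of_theta hω hcf y fun a => LinearMap.congr_fun hy a
  haveI : Module.Finite R (Coh.HH X ω 1) := Module.Finite.of_injective _ hθ
  haveI : Module.IsTorsionFree R (Coh.HH X ω 1) := hθ.moduleIsTorsionFree _ fun r x => map_smul _ r x
  have hfree : Module.Free R (Coh.HH X ω 1) := Module.free_of_finite_type_torsion_free'
  refine ⟨hfree, ?_⟩
  haveI := hfree
  rw [e0.finrank_eq]
  refine le_antisymm ?_ ?_
  · refine (LinearMap.finrank_le_finrank_of_injective hθ).trans (le_of_eq ?_)
    exact Module.finrank_linearMap_self R R Γ(X, ⊤) |>.trans rfl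
  · obtain ⟨y, hy⟩ := exists_ne (0 : Coh.HH X ω 1)
    let μ : Γ(X, ⊤) →ₗ[R] Coh.HH X ω 1 :=
      { toFun := fun a => HSMul.hSMul (α := Coh.Γtop X) a y
        map_add' := fun a a' => add_smul (R := Coh.Γtop X) a a' y
        map_smul' := fun c a => by
          show HSMul.hSMul (α := Coh.Γtop X) ((show Γ(X, ⊤) from Coh.toGlobal (X ↘ Spec (CommRingCat.of R)) c) * a) y = _
          rw [mul_smul]; rfl }
    refine LinearMap.finrank_le_finrank_of_injective (f := μ) ((injective_iff_map_eq_zero _).2 fun a ha => ?_)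
    by_contra hane
    -- a nonzero scalar is a multiple of `a`
    obtain ⟨r, hr, b, hb⟩ : ∃ r : R, r ≠ 0 ∧ ∃ b, algebraMap R Γ(X, ⊤) r = b * a := by
      have hI : Ideal.span {a} ≠ ⊥ := by simpa using hane
      obtain ⟨r, hr, hr0⟩ := Submodule.exists_mem_ne_zero_of_ne_bot
        (Ideal.comap_ne_bot_of_integral_mem (S := Γ(X, ⊤)) hane (Ideal.mem_span_singleton_self a)
          (Algebra.IsIntegral.isIntegral a) : (Ideal.span {a}).comap (algebraMap R Γ(X, ⊤)) ≠ ⊥)
      obtain ⟨b, hb⟩ := Ideal.mem_span_singleton'.1 hr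
      exact ⟨r, hr0, b, hb.symm⟩
    have h0 : r • y = 0 := by
      show HSMul.hSMul (α := Coh.Γtop X) (algebraMap R Γ(X, ⊤) r) y = 0
      rw [hb, mul_smul, show HSMul.hSMul (α := Coh.Γtop X) a y = 0 from ha, smul_zero]
    exact hy ((smul_eq_zero.1 h0).resolve_left hr)

end Groth.Agent.RelCurveDualLib
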